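import Mathlib
import Cfsg.Agent.Helper2.Stb.CExt

set_option autoImplicit false
set_option linter.unusedSectionVars false
set_option linter.unusedSimpArgs false
set_option linter.unusedVariables false

/-! Central extensions of simply-laced Steinberg groups of large rank split: the abstract
commutator calculus (after Milnor and Stein), with no use of the torus. -/

namespace Cfsg.Agent.Helper2.Stein

open scoped commutatorElement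
open Cfsg.Agent.Helper2.Stb

/-- a chain `a - m - b` of type `A₃`, with `p = a + m`, `q = m + b`, `k = a + m + b` -/
def Ch (Cm : ℕ → ℕ → Prop) (Sm : ℕ → ℕ → ℕ → ℤ → Prop) (a m b p q k : ℕ) (ε1 ε2 ε3 ε4 : ℤ) : Prop :=
  Sm a m p ε1 ∧ Sm m b q ε2 ∧ Sm p b k ε3 ∧ Sm a q k ε4 ∧ Cm a b ∧ Cm p q ∧ Cm k q ∧
    ε1 * ε3 = ε2 * ε4

/-- the combinatorial hypotheses on the commuting relation `Cm` and the sum relation `Sm` -/
structure Sys (n : ℕ) (Cm : ℕ → ℕ → Prop) (Sm : ℕ → ℕ → ℕ → ℤ → Prop) (dec : ℕ → ℕ × ℕ × ℤ) :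
    Prop where
  sm_lt : ∀ {r s k : ℕ} {ε : ℤ}, Sm r s k ε → r < n ∧ s < n ∧ k < n ∧ (ε = 1 ∨ ε = -1)
  sm_symm : ∀ {r s k : ℕ} {ε : ℤ}, Sm r s k ε → Sm s r k (-ε)
  cm_dec : ∀ {r s : ℕ}, Cm r s → ∃ a b ε, Sm a b r ε ∧ Cm a s ∧ Cm b s
  sm_cm : ∀ {r s k : ℕ} {ε : ℤ}, Sm r s k ε → Cm k s ∧ Cm k k
  dec_sm : ∀ k < n, Sm (dec k).1 (dec k).2.1 k (dec k).2.2
  link : ∀ {r s k : ℕ} {ε : ℤ}, Sm r s k ε →
    (r = (dec k).1 ∧ s = (dec k).2.1 ∧ ε = (dec k).2.2) ∨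
    (s = (dec k).1 ∧ r = (dec k).2.1 ∧ -ε = (dec k).2.2) ∨
    (∃ m ε1 ε2, Ch Cm Sm r m (dec k).2.1 (dec k).1 s k ε1 ε2 (dec k).2.2 ε) ∨
    (∃ m ε1 ε2, Ch Cm Sm s m (dec k).2.1 (dec k).1 r k ε1 ε2 (dec k).2.2 (-ε))
  dec_ch : ∀ k < n, ∃ a m q ε1 ε2 ε4,
    Ch Cm Sm a m (dec k).2.1 (dec k).1 q k ε1 ε2 (dec k).2.2 ε4

section grp

variable {E : Type*} [Group E]

theorem chain_comm {u v w : E} (h1 : u * w = w * u) (h2 : ⁅u, v⁆ * ⁅v, w⁆ = ⁅v, w⁆ * ⁅u, v⁆)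
    (h3 : ⁅u, ⁅v, w⁆⁆ * ⁅v, w⁆ = ⁅v, w⁆ * ⁅u, ⁅v, w⁆⁆) : ⁅⁅u, v⁆, w⁆ = ⁅u, ⁅v, w⁆⁆ := by
  obtain ⟨P, hP⟩ : ∃ P, P = ⁅u, v⁆ := ⟨_, rfl⟩
  obtain ⟨Q, hQ⟩ : ∃ Q, Q = ⁅v, w⁆ := ⟨_, rfl⟩
  rw [← hP, ← hQ] at h2
  rw [← hQ] at h3
  rw [← hP, ← hQ]
  have e1 : w * v * w⁻¹ = Q⁻¹ * v := by rw [hQ, commutatorElement_def]; group
  have e2 : w * u * w⁻¹ = u := by rw [← h1]; group
  have e3 : w * P * w⁻¹ = ⁅u, Q⁻¹ * v⁆ := by
    have : w * P * w⁻¹ = ⁅w * u * w⁻¹, w * v * w⁻¹⁆ := by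
      rw [hP]; simp only [commutatorElement_def]; group
    rw [this, e1, e2]
  have e4 : ⁅u, Q⁻¹ * v⁆ = ⁅u, Q⁻¹⁆ * (Q⁻¹ * P * Q) := by
    rw [hP]; simp only [commutatorElement_def]; group
  have e5 : Q⁻¹ * P * Q = P := by rw [mul_assoc, h2, ← mul_assoc, inv_mul_cancel, one_mul]
  have e6 : ⁅P, w⁆ = (⁅u, Q⁻¹⁆)⁻¹ := by
    have h : ⁅u, Q⁻¹⁆ = w * P * w⁻¹ * P⁻¹ := by rw [e3, e4, e5]; group
    rw [h, commutatorElement_def]; group
  have e7 : (⁅u, Q⁻¹⁆)⁻¹ = Q⁻¹ * ⁅u, Q⁆ * Q := by simp only [commutatorElement_def]; group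
  rw [e6, e7, mul_assoc, h3, ← mul_assoc, inv_mul_cancel, one_mul]

end grp

section main

variable {G E : Type*} [Group G] [Group E] {K : Type*} [CommRing K]
  {n : ℕ} {Cm : ℕ → ℕ → Prop} {Sm : ℕ → ℕ → ℕ → ℤ → Prop} {dec : ℕ → ℕ × ℕ × ℤ}

theorem eps_sq {ε : ℤ} (h : ε = 1 ∨ ε = -1) : ((ε : ℤ) : K) * ((ε : ℤ) : K) = 1 := by
  rcases h with rfl | rfl <;> simp

variable (S : Sys n Cm Sm dec) (X : ℕ → K → G)
  (hadd : ∀ r < n, ∀ t u : K, X r t * X r u = X r (t + u))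
  (hcm : ∀ {r s : ℕ}, Cm r s → ∀ t u : K, X r t * X s u = X s u * X r t)
  (hsm : ∀ {r s k : ℕ} {ε : ℤ}, Sm r s k ε → ∀ t u : K, ⁅X r t, X s u⁆ = X k ((ε : K) * t * u))
  (ψ : E →* G) (hψ : Function.Surjective ψ) (hc : ψ.ker ≤ Subgroup.center E)

include hc in
/-- an element whose image commutes with the images of `u` and `v` commutes with `⁅u, v⁆` -/
theorem commute_comm_of_map {u v w : E} (h1 : ψ w * ψ u = ψ u * ψ w)
    (h2 : ψ w * ψ v = ψ v * ψ w) : w * ⁅u, v⁆ = ⁅u, v⁆ * w := by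
  have e : w * ⁅u, v⁆ * w⁻¹ = ⁅w * u * w⁻¹, w * v * w⁻¹⁆ := by
    simp only [commutatorElement_def]; group
  have e1 : ψ (w * u * w⁻¹) = ψ u := by rw [map_mul, map_mul, map_inv, h1, mul_inv_cancel_right]
  have e2 : ψ (w * v * w⁻¹) = ψ v := by rw [map_mul, map_mul, map_inv, h2, mul_inv_cancel_right]
  rw [comm_eq_of_map_eq ψ hc e1 e2] at e
  calc w * ⁅u, v⁆ = (w * ⁅u, v⁆ * w⁻¹) * w := by group
    _ = ⁅u, v⁆ * w := by rw [e]

include S hcm hsm hψ hc in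
/-- Lemma A: lifts of commuting root elements commute -/
theorem lifts_commute {r s : ℕ} (h : Cm r s) {t u : K} {e1 e2 : E} (h1 : ψ e1 = X r t)
    (h2 : ψ e2 = X s u) : e1 * e2 = e2 * e1 := by
  obtain ⟨a, b, ε, hab, ha, hb⟩ := S.cm_dec h
  obtain ⟨_, _, _, hε⟩ := S.sm_lt hab
  obtain ⟨ua, hua⟩ := hψ (X a 1)
  obtain ⟨ub, hub⟩ := hψ (X b ((ε : K) * t))
  have hr : ψ ⁅ua, ub⁆ = X r t := by
    rw [map_commutatorElement, hua, hub, hsm hab, mul_one, ← mul_assoc, eps_sq hε, one_mul]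
  have hz : e1 * ⁅ua, ub⁆⁻¹ ∈ Subgroup.center E :=
    hc (by rw [MonoidHom.mem_ker, map_mul, map_inv, hr, h1, mul_inv_cancel])
  have hcomm : e2 * ⁅ua, ub⁆ = ⁅ua, ub⁆ * e2 :=
    commute_comm_of_map ψ hc (by rw [h2, hua]; exact (hcm ha 1 u).symm)
      (by rw [h2, hub]; exact (hcm hb _ u).symm)
  have hz' := Subgroup.mem_center_iff.1 hz e2
  calc e1 * e2 = (e1 * ⁅ua, ub⁆⁻¹) * (⁅ua, ub⁆ * e2) := by group
    _ = (e1 * ⁅ua, ub⁆⁻¹) * (e2 * ⁅ua, ub⁆) := by rw [hcomm]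
    _ = ((e1 * ⁅ua, ub⁆⁻¹) * e2) * ⁅ua, ub⁆ := by group
    _ = (e2 * (e1 * ⁅ua, ub⁆⁻¹)) * ⁅ua, ub⁆ := by rw [hz']
    _ = e2 * e1 := by group

/-- the commutator of lifts of `X r t` and `X s u` -/
noncomputable def liftF (r s : ℕ) (t u : K) : E :=
  ⁅Function.surjInv hψ (X r t), Function.surjInv hψ (X s u)⁆

include hc in
theorem liftF_eq {r s : ℕ} {t u : K} {e1 e2 : E} (h1 : ψ e1 = X r t) (h2 : ψ e2 = X s u) :
    ⁅e1, e2⁆ = liftF X ψ hψ r s t u :=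
  comm_eq_of_map_eq ψ hc (by rw [h1, Function.surjInv_eq hψ]) (by rw [h2, Function.surjInv_eq hψ])

include hsm in
theorem map_liftF {r s k : ℕ} {ε : ℤ} (h : Sm r s k ε) (t u : K) :
    ψ (liftF X ψ hψ r s t u) = X k ((ε : K) * t * u) := by
  unfold liftF
  rw [map_commutatorElement, Function.surjInv_eq hψ, Function.surjInv_eq hψ, hsm h]

theorem liftF_anti (r s : ℕ) (t u : K) :
    liftF X ψ hψ r s t u = (liftF X ψ hψ s r u t)⁻¹ := by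
  unfold liftF
  rw [commutatorElement_inv]

include S hadd hcm hsm hc in
theorem liftF_add_right {r s k : ℕ} {ε : ℤ} (h : Sm r s k ε) (t u u' : K) :
    liftF X ψ hψ r s t (u + u') = liftF X ψ hψ r s t u * liftF X ψ hψ r s t u' := by
  obtain ⟨hr, hs, hk, hε⟩ := S.sm_lt h
  obtain ⟨a, ha⟩ := hψ (X r t)
  obtain ⟨b, hb⟩ := hψ (X s u)
  obtain ⟨b', hb'⟩ := hψ (X s u')
  have hbb : ψ (b * b') = X s (u + u') := by rw [map_mul, hb, hb', hadd s hs]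
  rw [← liftF_eq X ψ hψ hc ha hbb, ← liftF_eq X ψ hψ hc ha hb, ← liftF_eq X ψ hψ hc ha hb']
  have e : ⁅a, b * b'⁆ = ⁅a, b⁆ * (b * ⁅a, b'⁆ * b⁻¹) := by
    simp only [commutatorElement_def]; group
  have hk' : ψ ⁅a, b'⁆ = X k ((ε : K) * t * u') := by
    rw [map_commutatorElement, ha, hb', hsm h]
  have hcomm := lifts_commute S X hcm hsm ψ hψ hc (S.sm_cm h).1 hk' hb
  rw [e, ← hcomm, mul_inv_cancel_right]

include S hadd hcm hsm hc in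
theorem liftF_add_left {r s k : ℕ} {ε : ℤ} (h : Sm r s k ε) (t t' u : K) :
    liftF X ψ hψ r s (t + t') u = liftF X ψ hψ r s t u * liftF X ψ hψ r s t' u := by
  have h' := S.sm_symm h
  rw [liftF_anti, liftF_add_right S X hadd hcm hsm ψ hψ hc h', mul_inv_rev, ← liftF_anti,
    ← liftF_anti]
  exact lifts_commute S X hcm hsm ψ hψ hc (S.sm_cm h).2 (map_liftF X hsm ψ hψ h t' u)
    (map_liftF X hsm ψ hψ h t u)

include S hadd hcm hsm hc in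
theorem liftF_zero_right {r s k : ℕ} {ε : ℤ} (h : Sm r s k ε) (t : K) :
    liftF X ψ hψ r s t 0 = 1 := by
  have h1 := liftF_add_right S X hadd hcm hsm ψ hψ hc h t 0 0
  rw [add_zero] at h1
  exact (mul_eq_left (a := liftF X ψ hψ r s t 0)).1 h1.symm

include S hadd hcm hsm hc in
theorem liftF_neg_right {r s k : ℕ} {ε : ℤ} (h : Sm r s k ε) (t u : K) :
    liftF X ψ hψ r s t (-u) = (liftF X ψ hψ r s t u)⁻¹ := by
  apply eq_inv_of_mul_eq_one_left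
  rw [← liftF_add_right S X hadd hcm hsm ψ hψ hc h, neg_add_cancel,
    liftF_zero_right S X hadd hcm hsm ψ hψ hc h]

include S hadd hcm hsm hc in
/-- the chain identity -/
theorem liftF_chain {a m b p q k : ℕ} {ε1 ε2 ε3 ε4 : ℤ} (h : Ch Cm Sm a m b p q k ε1 ε2 ε3 ε4)
    (x y z : K) :
    liftF X ψ hψ p b ((ε1 : K) * x * y) z = liftF X ψ hψ a q x ((ε2 : K) * y * z) := by
  obtain ⟨h1, h2, h3, h4, c1, c2, c3, _⟩ := h
  obtain ⟨u, hu⟩ := hψ (X a x)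
  obtain ⟨v, hv⟩ := hψ (X m y)
  obtain ⟨w, hw⟩ := hψ (X b z)
  have hP : ψ ⁅u, v⁆ = X p ((ε1 : K) * x * y) := by
    rw [map_commutatorElement, hu, hv, hsm h1]
  have hQ : ψ ⁅v, w⁆ = X q ((ε2 : K) * y * z) := by
    rw [map_commutatorElement, hv, hw, hsm h2]
  have hR : ψ ⁅u, ⁅v, w⁆⁆ = X k ((ε4 : K) * x * ((ε2 : K) * y * z)) := by
    rw [map_commutatorElement, hu, hQ, hsm h4]
  rw [← liftF_eq X ψ hψ hc hP hw, ← liftF_eq X ψ hψ hc hu hQ]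
  exact chain_comm (lifts_commute S X hcm hsm ψ hψ hc c1 hu hw)
    (lifts_commute S X hcm hsm ψ hψ hc c2 hP hQ)
    (lifts_commute S X hcm hsm ψ hψ hc c3 hR hQ)

/-- `liftF r s` only depends on the product of its two arguments -/
def Bal (r s : ℕ) : Prop := ∀ t u : K, liftF X ψ hψ r s t u = liftF X ψ hψ r s 1 (t * u)

include S hadd hcm hsm hc in
theorem bal_of_chain {a m b p q k : ℕ} {ε1 ε2 ε3 ε4 : ℤ} (h : Ch Cm Sm a m b p q k ε1 ε2 ε3 ε4) :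
    Bal X ψ hψ p b ∧ Bal X ψ hψ a q ∧
      ∀ v : K, liftF X ψ hψ p b 1 ((ε3 : K) * v) = liftF X ψ hψ a q 1 ((ε4 : K) * v) := by
  have hch := liftF_chain S X hadd hcm hsm ψ hψ hc h
  obtain ⟨h1, h2, h3, h4, c1, c2, c3, hs⟩ := h
  have e1 := eps_sq (K := K) (S.sm_lt h1).2.2.2
  have e2 := eps_sq (K := K) (S.sm_lt h2).2.2.2
  have hB1 : Bal X ψ hψ p b := by
    intro t z
    have a1 := hch 1 ((ε1 : K) * t) z
    have a2 := hch 1 (ε1 : K) (t * z)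
    have k1 : (ε1 : K) * 1 * ((ε1 : K) * t) = t := by rw [mul_one, ← mul_assoc, e1, one_mul]
    have k2 : (ε1 : K) * 1 * (ε1 : K) = 1 := by rw [mul_one, e1]
    have k3 : (ε2 : K) * (ε1 : K) * (t * z) = (ε2 : K) * ((ε1 : K) * t) * z := by ring
    rw [k1] at a1
    rw [k2, k3] at a2
    rw [a1, a2]
  have hB2 : Bal X ψ hψ a q := by
    intro x w
    have a1 := hch x 1 ((ε2 : K) * w)
    have a2 := hch 1 1 ((ε2 : K) * (x * w))
    have k1 : (ε2 : K) * 1 * ((ε2 : K) * w) = w := by rw [mul_one, ← mul_assoc, e2, one_mul]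
    have k2 : (ε2 : K) * 1 * ((ε2 : K) * (x * w)) = x * w := by
      rw [mul_one, ← mul_assoc, e2, one_mul]
    rw [k1] at a1
    rw [k2] at a2
    rw [← a1, ← a2, hB1 ((ε1 : K) * x * 1), hB1 ((ε1 : K) * 1 * 1)]
    congr 1
    ring
  refine ⟨hB1, hB2, ?_⟩
  intro v
  have a1 := hch 1 (ε1 : K) ((ε3 : K) * v)
  rw [mul_one, e1] at a1
  rw [a1]
  congr 1
  have hs' : ((ε1 : ℤ) : K) * (ε3 : K) = (ε2 : K) * (ε4 : K) := by
    rw [← Int.cast_mul, hs, Int.cast_mul]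
  calc (ε2 : K) * (ε1 : K) * ((ε3 : K) * v) = (ε2 : K) * ((ε1 : K) * (ε3 : K)) * v := by ring
    _ = ((ε2 : K) * (ε2 : K)) * (ε4 : K) * v := by rw [hs']; ring
    _ = (ε4 : K) * v := by rw [e2, one_mul]

include S hadd hcm hsm hc in
theorem bal_symm {r s k : ℕ} {ε : ℤ} (h : Sm r s k ε) (hB : Bal X ψ hψ r s) :
    Bal X ψ hψ s r ∧
      ∀ v : K, liftF X ψ hψ s r 1 (((-ε : ℤ) : K) * v) = liftF X ψ hψ r s 1 ((ε : K) * v) := by
  constructor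
  · intro t u
    rw [liftF_anti, hB u t, liftF_anti X ψ hψ s r 1 (t * u), hB (t * u) 1, mul_one, mul_comm]
  · intro v
    rw [liftF_anti, hB, mul_one, Int.cast_neg, neg_mul,
      liftF_neg_right S X hadd hcm hsm ψ hψ hc h, inv_inv]

include S hadd hcm hsm hc in
/-- Lemma B: every sum decomposition gives the same lift -/
theorem liftF_eq_dec {r s k : ℕ} {ε : ℤ} (h : Sm r s k ε) (t u : K) :
    liftF X ψ hψ r s t u =
      liftF X ψ hψ (dec k).1 (dec k).2.1 1 (((dec k).2.2 : K) * ((ε : K) * t * u)) := by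
  obtain ⟨_, _, hk, hε⟩ := S.sm_lt h
  have e := eps_sq (K := K) hε
  rcases S.link h with ⟨rfl, rfl, rfl⟩ | ⟨rfl, rfl, h3⟩ | ⟨m, ε1, ε2, hch⟩ | ⟨m, ε1, ε2, hch⟩
  · obtain ⟨a, m, q, ε1, ε2, ε4, hch⟩ := S.dec_ch k hk
    obtain ⟨hB, _, _⟩ := bal_of_chain S X hadd hcm hsm ψ hψ hc hch
    rw [hB t u]
    congr 1
    rw [mul_assoc ((dec k).2.2 : K), ← mul_assoc, e, one_mul]
  · obtain ⟨a, m, q, ε1, ε2, ε4, hch⟩ := S.dec_ch k hk
    obtain ⟨hB, _, _⟩ := bal_of_chain S X hadd hcm hsm ψ hψ hc hch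
    obtain ⟨hB', hE⟩ := bal_symm S X hadd hcm hsm ψ hψ hc (S.dec_sm k hk) hB
    rw [hB' t u]
    have := hE ((ε : K) * (t * u))
    rw [← h3, neg_neg, ← mul_assoc, e, one_mul] at this
    rw [this, ← h3]
    congr 1
    ring
  · obtain ⟨hB, hB2, hE⟩ := bal_of_chain S X hadd hcm hsm ψ hψ hc hch
    rw [hB2 t u]
    have a1 := hE ((ε : K) * (t * u))
    have k1 : (ε : K) * ((ε : K) * (t * u)) = t * u := by rw [← mul_assoc, e, one_mul]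
    have k2 : (ε : K) * (t * u) = (ε : K) * t * u := by ring
    rw [k1, k2] at a1
    rw [← a1]
  · obtain ⟨hB, hB2, hE⟩ := bal_of_chain S X hadd hcm hsm ψ hψ hc hch
    obtain ⟨hB', hE'⟩ := bal_symm S X hadd hcm hsm ψ hψ hc (S.sm_symm h) hB2
    rw [hB' t u]
    have a1 := hE' ((ε : K) * (t * u))
    have k1 : (((- -ε : ℤ) : ℤ) : K) * ((ε : K) * (t * u)) = t * u := by
      rw [neg_neg, ← mul_assoc, e, one_mul]
    rw [k1] at a1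
    have a2 := hE ((ε : K) * (t * u))
    have k2 : (ε : K) * (t * u) = (ε : K) * t * u := by ring
    rw [k2] at a2 a1
    rw [a1, a2]

include S hadd hcm hsm hψ hc in
/-- central extensions split over the root elements, compatibly with the relations -/
theorem exists_lift : ∃ Y : ℕ → K → E, (∀ r < n, ∀ t, ψ (Y r t) = X r t) ∧
    (∀ r < n, ∀ t u, Y r t * Y r u = Y r (t + u)) ∧
    (∀ {r s : ℕ}, Cm r s → r < n → s < n → ∀ t u, Y r t * Y s u = Y s u * Y r t) ∧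
    (∀ {r s k : ℕ} {ε : ℤ}, Sm r s k ε → ∀ t u, ⁅Y r t, Y s u⁆ = Y k ((ε : K) * t * u)) := by
  have hY : ∀ k < n, ∀ t : K,
      ψ (liftF X ψ hψ (dec k).1 (dec k).2.1 1 (((dec k).2.2 : K) * t)) = X k t := by
    intro k hk t
    rw [map_liftF X hsm ψ hψ (S.dec_sm k hk), mul_one, ← mul_assoc,
      eps_sq (S.sm_lt (S.dec_sm k hk)).2.2.2, one_mul]
  refine ⟨fun k t => liftF X ψ hψ (dec k).1 (dec k).2.1 1 (((dec k).2.2 : K) * t), hY, ?_, ?_, ?_⟩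
  · intro k hk t u
    show liftF X ψ hψ _ _ 1 _ * liftF X ψ hψ _ _ 1 _ = liftF X ψ hψ _ _ 1 _
    rw [mul_add, liftF_add_right S X hadd hcm hsm ψ hψ hc (S.dec_sm k hk)]
  · intro r s h hr hs t u
    exact lifts_commute S X hcm hsm ψ hψ hc h (hY r hr t) (hY s hs u)
  · intro r s k ε h t u
    obtain ⟨hr, hs, hk, hε⟩ := S.sm_lt h
    show ⁅liftF X ψ hψ _ _ 1 _, liftF X ψ hψ _ _ 1 _⁆ = liftF X ψ hψ _ _ 1 _
    rw [liftF_eq X ψ hψ hc (hY r hr t) (hY s hs u), liftF_eq_dec S X hadd hcm hsm ψ hψ hc h]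

end main

end Cfsg.Agent.Helper2.Stein
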