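import Mathlib
import Cfsg.Agent.Helper2.Stein.Abs

set_option autoImplicit false
set_option linter.unusedSectionVars false
set_option linter.unusedSimpArgs false
set_option linter.unusedVariables false

/-! Central extensions of simply-laced Steinberg groups: the decidable checks on a chain table
which give the combinatorial hypotheses `Sys`. -/

namespace Cfsg.Agent.Helper2.Stein

section tab

variable (n : ℕ) (ce : ℕ → ℕ → List (ℕ × ℤ)) (ng : ℕ → ℕ) (d1 d2 : ℕ → ℕ)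

/-- the sum of two roots with its sign, read off the chain table -/
def smF (a b : ℕ) : Option (ℕ × ℤ) :=
  if a < n ∧ b < n ∧ a ≠ b ∧ a ≠ ng b then
    match ce b a with
    | [p] => if p.1 < n ∧ (p.2 = 1 ∨ p.2 = -1) then some (p.1, -p.2) else none
    | _ => none
  else none

/-- the two root subgroups commute by the relations -/
def CmT (a b : ℕ) : Prop := a < n ∧ b < n ∧ (a = b ∨ (a ≠ ng b ∧ ce b a = []))

instance (a b : ℕ) : Decidable (CmT n ce ng a b) := by unfold CmT; infer_instance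

/-- `a + b = k` with sign `ε` -/
def SmT (a b k : ℕ) (ε : ℤ) : Prop := smF n ce ng a b = some (k, ε)

/-- the root `p - a` -/
def lm (p a : ℕ) : ℕ := (((ce p (ng a)).head?).map Prod.fst).getD 0

/-- the sign of the chosen decomposition -/
def eps0 (k : ℕ) : ℤ := ((smF n ce ng (d1 k) (d2 k)).map Prod.snd).getD 1

/-- the chosen decomposition -/
def decT (k : ℕ) : ℕ × ℕ × ℤ := (d1 k, d2 k, eps0 n ce ng d1 d2 k)

/-- decidable form of the chain condition -/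
def ChP (a m b p q k : ℕ) (ε3 ε4 : ℤ) : Prop :=
  ∃ e1 ∈ (smF n ce ng a m).toList, ∃ e2 ∈ (smF n ce ng m b).toList, e1.1 = p ∧ e2.1 = q ∧
    smF n ce ng p b = some (k, ε3) ∧ smF n ce ng a q = some (k, ε4) ∧ CmT n ce ng a b ∧
    CmT n ce ng p q ∧ CmT n ce ng k q ∧ e1.2 * ε3 = e2.2 * ε4

instance (a m b p q k : ℕ) (ε3 ε4 : ℤ) : Decidable (ChP n ce ng a m b p q k ε3 ε4) := by
  unfold ChP; infer_instance

def ChkShort : Prop := ∀ r < n, ∀ s < n, (ce r s).length ≤ 1 ∧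
  ∀ p ∈ ce r s, p.1 < n ∧ (p.2 = 1 ∨ p.2 = -1)

def ChkSymm : Prop := ∀ r < n, ∀ s < n, ∀ p ∈ (smF n ce ng r s).toList,
  smF n ce ng s r = some (p.1, -p.2)

def ChkCmDec : Prop := ∀ r < n, ∀ s < n, CmT n ce ng r s →
  ∃ a < n, (∃ p ∈ (smF n ce ng a (lm ce ng r a)).toList, p.1 = r) ∧ CmT n ce ng a s ∧
    CmT n ce ng (lm ce ng r a) s

def ChkSmCm : Prop := ∀ r < n, ∀ s < n, ∀ p ∈ (smF n ce ng r s).toList, CmT n ce ng p.1 s

def ChkDec : Prop := ∀ k < n, ∃ p ∈ (smF n ce ng (d1 k) (d2 k)).toList, p.1 = k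

def ChkLink : Prop := ∀ r < n, ∀ s < n, ∀ p ∈ (smF n ce ng r s).toList,
  (r = d1 p.1 ∧ s = d2 p.1 ∧ p.2 = eps0 n ce ng d1 d2 p.1) ∨
  (s = d1 p.1 ∧ r = d2 p.1 ∧ -p.2 = eps0 n ce ng d1 d2 p.1) ∨
  ChP n ce ng r (lm ce ng (d1 p.1) r) (d2 p.1) (d1 p.1) s p.1 (eps0 n ce ng d1 d2 p.1) p.2 ∨
  ChP n ce ng s (lm ce ng (d1 p.1) s) (d2 p.1) (d1 p.1) r p.1 (eps0 n ce ng d1 d2 p.1) (-p.2)

def ChkDecCh : Prop := ∀ k < n, ∃ a < n,
  ∃ e2 ∈ (smF n ce ng (lm ce ng (d1 k) a) (d2 k)).toList, ∃ e4 ∈ (smF n ce ng a e2.1).toList,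
    ChP n ce ng a (lm ce ng (d1 k) a) (d2 k) (d1 k) e2.1 k (eps0 n ce ng d1 d2 k) e4.2

instance : Decidable (ChkShort n ce) := by unfold ChkShort; infer_instance
instance : Decidable (ChkSymm n ce ng) := by unfold ChkSymm; infer_instance
instance : Decidable (ChkCmDec n ce ng) := by unfold ChkCmDec; infer_instance
instance : Decidable (ChkSmCm n ce ng) := by unfold ChkSmCm; infer_instance
instance : Decidable (ChkDec n ce ng d1 d2) := by unfold ChkDec; infer_instance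
instance : Decidable (ChkLink n ce ng d1 d2) := by unfold ChkLink; infer_instance
instance : Decidable (ChkDecCh n ce ng d1 d2) := by unfold ChkDecCh; infer_instance

variable {n ce ng d1 d2}

theorem smT_lt {a b k : ℕ} {ε : ℤ} (h : SmT n ce ng a b k ε) :
    a < n ∧ b < n ∧ k < n ∧ (ε = 1 ∨ ε = -1) ∧ a ≠ b ∧ a ≠ ng b ∧ ce b a = [(k, -ε)] := by
  unfold SmT smF at h
  split_ifs at h with h1
  obtain ⟨ha, hb, hab, hng⟩ := h1
  split at h
  · rename_i p hp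
    split_ifs at h with h2
    rw [Option.some.injEq, Prod.mk.injEq] at h
    obtain ⟨rfl, rfl⟩ := h
    refine ⟨ha, hb, h2.1, ?_, hab, hng, ?_⟩
    · rcases h2.2 with e | e
      · right; rw [e]
      · left; rw [e]; rfl
    · rw [hp, neg_neg]
  · exact absurd h (by simp)

theorem smT_of {a b k : ℕ} {M : ℤ} (ha : a < n) (hb : b < n) (hab : a ≠ b) (hng : a ≠ ng b)
    (hce : ce b a = [(k, M)]) (hk : k < n) (hM : M = 1 ∨ M = -1) : SmT n ce ng a b k (-M) := by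
  unfold SmT smF
  rw [if_pos ⟨ha, hb, hab, hng⟩, hce]
  simp only
  rw [if_pos ⟨hk, hM⟩]

theorem mem_toList_iff {α : Type*} {o : Option α} {x : α} : x ∈ o.toList ↔ o = some x := by
  cases o <;> simp [eq_comm]

theorem ch_of_chP {a m b p q k : ℕ} {ε3 ε4 : ℤ} (h : ChP n ce ng a m b p q k ε3 ε4) :
    ∃ ε1 ε2, Ch (CmT n ce ng) (SmT n ce ng) a m b p q k ε1 ε2 ε3 ε4 := by
  obtain ⟨e1, he1, e2, he2, rfl, rfl, h3, h4, c1, c2, c3, hs⟩ := h
  rw [mem_toList_iff] at he1 he2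
  exact ⟨e1.2, e2.2, he1, he2, h3, h4, c1, c2, c3, hs⟩

/-- the checks give the combinatorial hypotheses -/
theorem sys_of_chk (h1 : ChkSymm n ce ng) (h2 : ChkCmDec n ce ng) (h3 : ChkSmCm n ce ng)
    (h4 : ChkDec n ce ng d1 d2) (h5 : ChkLink n ce ng d1 d2) (h6 : ChkDecCh n ce ng d1 d2) :
    Sys n (CmT n ce ng) (SmT n ce ng) (decT n ce ng d1 d2) := by
  have hdec : ∀ k < n, SmT n ce ng (d1 k) (d2 k) k (eps0 n ce ng d1 d2 k) := by
    intro k hk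
    obtain ⟨p, hp, rfl⟩ := h4 k hk
    rw [mem_toList_iff] at hp
    unfold SmT eps0
    rw [hp]
    rfl
  refine ⟨?_, ?_, ?_, ?_, hdec, ?_, ?_⟩
  · intro r s k ε h
    obtain ⟨a1, a2, a3, a4, _⟩ := smT_lt h
    exact ⟨a1, a2, a3, a4⟩
  · intro r s k ε h
    obtain ⟨a1, a2, _⟩ := smT_lt h
    exact h1 r a1 s a2 (k, ε) (mem_toList_iff.2 h)
  · intro r s h
    obtain ⟨a, _, ⟨p, hp, hpr⟩, c1, c2⟩ := h2 r h.1 s h.2.1 h
    rw [mem_toList_iff] at hp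
    refine ⟨a, lm ce ng r a, p.2, ?_, c1, c2⟩
    unfold SmT
    rw [hp, ← hpr]
  · intro r s k ε h
    obtain ⟨a1, a2, a3, _⟩ := smT_lt h
    exact ⟨h3 r a1 s a2 (k, ε) (mem_toList_iff.2 h), a3, a3, Or.inl rfl⟩
  · intro r s k ε h
    obtain ⟨a1, a2, a3, _⟩ := smT_lt h
    rcases h5 r a1 s a2 (k, ε) (mem_toList_iff.2 h) with c | c | c | c
    · exact Or.inl c
    · exact Or.inr (Or.inl c)
    · obtain ⟨ε1, ε2, hc⟩ := ch_of_chP c
      exact Or.inr (Or.inr (Or.inl ⟨_, ε1, ε2, hc⟩))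
    · obtain ⟨ε1, ε2, hc⟩ := ch_of_chP c
      exact Or.inr (Or.inr (Or.inr ⟨_, ε1, ε2, hc⟩))
  · intro k hk
    obtain ⟨a, _, e2, _, e4, _, c⟩ := h6 k hk
    obtain ⟨ε1, ε2, hc⟩ := ch_of_chP c
    exact ⟨a, _, e2.1, ε1, ε2, e4.2, hc⟩

end tab

/-! ### row forms of the checks, and chunking -/

section rows

variable (n : ℕ) (ce : ℕ → ℕ → List (ℕ × ℤ)) (ng : ℕ → ℕ) (d1 d2 : ℕ → ℕ) (w : ℕ → ℕ → ℕ)

/-- all the checks for the pairs `(r, s)`, `s < n`, with a witness function for the decompositions -/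
def RowOK (r : ℕ) : Prop :=
  ∀ s < n, ((ce r s).length ≤ 1 ∧ ∀ p ∈ ce r s, p.1 < n ∧ (p.2 = 1 ∨ p.2 = -1)) ∧
    (CmT n ce ng r s →
      (∃ p ∈ (smF n ce ng (w r s) (lm ce ng r (w r s))).toList, p.1 = r) ∧ CmT n ce ng (w r s) s ∧
        CmT n ce ng (lm ce ng r (w r s)) s) ∧
    ∀ p ∈ (smF n ce ng r s).toList,
      smF n ce ng s r = some (p.1, -p.2) ∧ CmT n ce ng p.1 s ∧
      ((r = d1 p.1 ∧ s = d2 p.1 ∧ p.2 = eps0 n ce ng d1 d2 p.1) ∨
      (s = d1 p.1 ∧ r = d2 p.1 ∧ -p.2 = eps0 n ce ng d1 d2 p.1) ∨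
      ChP n ce ng r (lm ce ng (d1 p.1) r) (d2 p.1) (d1 p.1) s p.1 (eps0 n ce ng d1 d2 p.1) p.2 ∨
      ChP n ce ng s (lm ce ng (d1 p.1) s) (d2 p.1) (d1 p.1) r p.1 (eps0 n ce ng d1 d2 p.1) (-p.2))

instance (r : ℕ) : Decidable (RowOK n ce ng d1 d2 w r) := by unfold RowOK; infer_instance

variable {n ce ng d1 d2 w}

theorem forall_lt_of_blocks {P : ℕ → Prop} (b m : ℕ) (h : ∀ j < m, ∀ r < b, P (r + b * j)) :
    ∀ r < b * m, P r := by
  intro r hr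
  have hb : 0 < b := by
    rcases Nat.eq_zero_or_pos b with rfl | hb
    · simp at hr
    · exact hb
  have h1 : r / b < m := by
    rw [Nat.div_lt_iff_lt_mul hb, mul_comm]; exact hr
  have := h (r / b) h1 (r % b) (Nat.mod_lt _ hb)
  rwa [Nat.mod_add_div] at this

theorem chks_of_rows (h : ∀ r < n, RowOK n ce ng d1 d2 w r) :
    ChkShort n ce ∧ ChkSymm n ce ng ∧ ChkCmDec n ce ng ∧ ChkSmCm n ce ng ∧
      ChkLink n ce ng d1 d2 := by
  refine ⟨?_, ?_, ?_, ?_, ?_⟩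
  · intro r hr s hs
    exact (h r hr s hs).1
  · intro r hr s hs p hp
    exact ((h r hr s hs).2.2 p hp).1
  · intro r hr s hs hc
    obtain ⟨a1, a2, a3⟩ := (h r hr s hs).2.1 hc
    exact ⟨w r s, a2.1, a1, a2, a3⟩
  · intro r hr s hs p hp
    exact ((h r hr s hs).2.2 p hp).2.1
  · intro r hr s hs p hp
    exact ((h r hr s hs).2.2 p hp).2.2

end rows

end Cfsg.Agent.Helper2.Stein
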