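import Mathlib
import Cfsg.Agent.Helper2.Stein.Tab
import Cfsg.Agent.Helper2.Stb.UnivMain

set_option autoImplicit false
set_option linter.unusedSectionVars false
set_option linter.unusedSimpArgs false
set_option linter.unusedVariables false

/-! Central extensions of simply-laced Steinberg groups of large rank split: from the table checks
to the universal property of the group presented by (R1), (R2), over an arbitrary field. -/

namespace Cfsg.Agent.Helper2.Stein

open Cfsg.Lie Cfsg.Agent.Helper6 Cfsg.Agent.Helper2.StPerf Cfsg.Agent.Helper2.Stb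
open scoped commutatorElement

variable {D : ChevalleyDatum} {K : Type*} [Field K]

theorem commTerms_of_short {r s : ℕ} (h1 : (D.chainEntry r s).length ≤ 1)
    (h2 : (D.chainEntry s r).length ≤ 1) :
    D.commTerms r s = (D.chainEntry r s).map fun p => (p.1, p.2, 1, 1) := by
  unfold ChevalleyDatum.commTerms ChevalleyDatum.chainRoot ChevalleyDatum.chainM
  rcases hA : D.chainEntry r s with _ | ⟨p, _ | ⟨p', l⟩⟩
  · rcases hB : D.chainEntry s r with _ | ⟨q, _ | ⟨q', l'⟩⟩
    · simp
    · simp
    · rw [hB] at h2; simp at h2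
  · rcases hB : D.chainEntry s r with _ | ⟨q, _ | ⟨q', l'⟩⟩
    · simp
    · simp
    · rw [hB] at h2; simp at h2
  · rw [hA] at h1; simp at h1

/-- the table checks for a simply-laced datum -/
structure SLOK (D : ChevalleyDatum) (d1 d2 : ℕ → ℕ) : Prop where
  neg : ∀ r < D.nroots, D.neg r = D.nroots - 1 - r
  short : ChkShort D.nroots D.chainEntry
  symm : ChkSymm D.nroots D.chainEntry (fun r => D.nroots - 1 - r)
  cmdec : ChkCmDec D.nroots D.chainEntry (fun r => D.nroots - 1 - r)
  smcm : ChkSmCm D.nroots D.chainEntry (fun r => D.nroots - 1 - r)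
  dec : ChkDec D.nroots D.chainEntry (fun r => D.nroots - 1 - r) d1 d2
  link : ChkLink D.nroots D.chainEntry (fun r => D.nroots - 1 - r) d1 d2
  decch : ChkDecCh D.nroots D.chainEntry (fun r => D.nroots - 1 - r) d1 d2

section gside

variable {d1 d2 : ℕ → ℕ} (hOK : SLOK D d1 d2) {M : Type*} [Group M] {X : ℕ → K → M}
  (h : R12 D X)

include hOK h

theorem hcm_of_r12 {r s : ℕ} (hc : CmT D.nroots D.chainEntry (fun r => D.nroots - 1 - r) r s)
    (t u : K) : X r t * X s u = X s u * X r t := by
  obtain ⟨hr, hs, hc⟩ := hc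
  rcases hc with rfl | ⟨h1, h2⟩
  · rw [h.add r hr, h.add r hr, add_comm]
  · by_cases hrs : r = s
    · subst hrs
      rw [h.add r hr, h.add r hr, add_comm]
    · have hng : r ≠ D.neg s := by rw [hOK.neg s hs]; exact h1
      have hcomm := h.comm s hs r hr hrs hng (-u) (-t)
      have hct : D.commTerms s r = [] := by
        rw [commTerms_of_short (hOK.short s hs r hr).1 (hOK.short r hr s hs).1, h2]; rfl
      unfold ChevalleyDatum.commWord at hcomm
      rw [hct, List.map_nil, wordX_nil, ← X_inv h hr, ← X_inv h hs, inv_inv, inv_inv] at hcomm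
      have : X r t * X s u = (X r t * X s u * (X r t)⁻¹ * (X s u)⁻¹) * (X s u * X r t) := by group
      rw [this, hcomm, one_mul]

theorem hsm_of_r12 {r s k : ℕ} {ε : ℤ}
    (hs : SmT D.nroots D.chainEntry (fun r => D.nroots - 1 - r) r s k ε) (t u : K) :
    ⁅X r t, X s u⁆ = X k ((ε : K) * t * u) := by
  obtain ⟨hr, hs', hk, hε, hrs, hng, hce⟩ := smT_lt hs
  have hng' : r ≠ D.neg s := by rw [hOK.neg s hs']; exact hng
  have hcomm := h.comm s hs' r hr hrs hng' (-u) (-t)
  have hct : D.commTerms s r = [(k, -ε, 1, 1)] := by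
    rw [commTerms_of_short (hOK.short s hs' r hr).1 (hOK.short r hr s hs').1, hce]; rfl
  unfold ChevalleyDatum.commWord at hcomm
  rw [hct, List.map_cons, List.map_nil, wordX_cons, wordX_nil, mul_one, ← X_inv h hr,
    ← X_inv h hs', inv_inv, inv_inv] at hcomm
  rw [commutatorElement_def, hcomm]
  congr 1
  push_cast
  ring

end gside

/-- the relations for the lifted generators -/
theorem r12_of_lift {d1 d2 : ℕ → ℕ} (hOK : SLOK D d1 d2) {E : Type*} [Group E] {Y : ℕ → K → E}
    (hadd : ∀ r < D.nroots, ∀ t u : K, Y r t * Y r u = Y r (t + u))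
    (hcm : ∀ {r s : ℕ}, CmT D.nroots D.chainEntry (fun r => D.nroots - 1 - r) r s →
      r < D.nroots → s < D.nroots → ∀ t u : K, Y r t * Y s u = Y s u * Y r t)
    (hsm : ∀ {r s k : ℕ} {ε : ℤ}, SmT D.nroots D.chainEntry (fun r => D.nroots - 1 - r) r s k ε →
      ∀ t u : K, ⁅Y r t, Y s u⁆ = Y k ((ε : K) * t * u)) : R12 D Y := by
  have hzero : ∀ r < D.nroots, Y r 0 = 1 := by
    intro r hr
    have h1 := hadd r hr 0 0
    rw [add_zero] at h1
    exact (mul_eq_left (a := Y r 0)).1 h1
  have hinv : ∀ r < D.nroots, ∀ t : K, (Y r t)⁻¹ = Y r (-t) := by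
    intro r hr t
    apply inv_eq_of_mul_eq_one_right
    rw [hadd r hr, add_neg_cancel, hzero r hr]
  refine ⟨hadd, ?_⟩
  intro r hr s hs h1 h2 t u
  have h2' : s ≠ D.nroots - 1 - r := by rw [← hOK.neg r hr]; exact h2
  have hsh := hOK.short r hr s hs
  have hct := commTerms_of_short hsh.1 (hOK.short s hs r hr).1
  unfold ChevalleyDatum.commWord
  rw [hct]
  rcases hce : D.chainEntry r s with _ | ⟨p, _ | ⟨p', l⟩⟩
  · rw [List.map_nil, List.map_nil, wordX_nil]
    have hc : CmT D.nroots D.chainEntry (fun r => D.nroots - 1 - r) s r :=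
      ⟨hs, hr, Or.inr ⟨h2', hce⟩⟩
    have := hcm hc hs hr (-u) (-t)
    rw [hinv s hs, hinv r hr]
    calc Y s (-u) * Y r (-t) * Y s u * Y r t = (Y s (-u) * Y r (-t)) * (Y s u * Y r t) := by group
      _ = (Y r (-t) * Y s (-u)) * (Y s u * Y r t) := by rw [this]
      _ = Y r (-t) * (Y s (-u) * Y s u) * Y r t := by group
      _ = 1 := by rw [hadd s hs, neg_add_cancel, hzero s hs, mul_one, hadd r hr, neg_add_cancel,
          hzero r hr]
  · have hp := hsh.2 p (by rw [hce]; exact List.mem_singleton_self p)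
    have hS : SmT D.nroots D.chainEntry (fun r => D.nroots - 1 - r) s r p.1 (-p.2) :=
      smT_of hs hr h1 h2' hce hp.1 hp.2
    have := hsm hS (-u) (-t)
    rw [List.map_cons, List.map_nil, List.map_cons, List.map_nil, wordX_cons, wordX_nil, mul_one,
      hinv s hs, hinv r hr]
    rw [commutatorElement_def, hinv s hs, hinv r hr, neg_neg, neg_neg] at this
    rw [this]
    congr 1
    push_cast
    ring
  · rw [hce] at hsh
    simp at hsh

section split

variable {d1 d2 : ℕ → ℕ} (hOK : SLOK D d1 d2)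

include hOK

/-- the group presented by (R1), (R2) is perfect -/
theorem perfect_of_slok : commutator (D.SteinbergCover K) = ⊤ := by
  have hsub : D.steinbergRelsAB K ⊆ D.steinbergRelsAB K := subset_rfl
  have h : R12 D (pX D (D.steinbergRelsAB K)) := r12_pX hsub
  have S := sys_of_chk hOK.symm hOK.cmdec hOK.smcm hOK.dec hOK.link hOK.decch
  rw [eq_top_iff, ← gen_pX (D := D) (rels := D.steinbergRelsAB K), Subgroup.closure_le]
  rintro _ ⟨r, hr, t, rfl⟩
  have hd := S.dec_sm r hr
  have hε := (S.sm_lt hd).2.2.2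
  have := hsm_of_r12 hOK h hd 1 (((decT D.nroots D.chainEntry (fun r => D.nroots - 1 - r) d1 d2
    r).2.2 : K) * t)
  rw [mul_one, ← mul_assoc, eps_sq hε, one_mul] at this
  rw [SetLike.mem_coe, ← this, commutator_def]
  exact Subgroup.commutator_mem_commutator (Subgroup.mem_top _) (Subgroup.mem_top _)

/-- every central extension of the group presented by (R1), (R2) splits -/
theorem exists_section_of_slok {E : Type*} [Group E] (ψ : E →* D.SteinbergCover K)
    (hψ : Function.Surjective ψ) (hc : ψ.ker ≤ Subgroup.center E) :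
    ∃ σ : D.SteinbergCover K →* E, ψ.comp σ = MonoidHom.id _ := by
  have hsub : D.steinbergRelsAB K ⊆ D.steinbergRelsAB K := subset_rfl
  obtain ⟨X, hX⟩ : ∃ X : ℕ → K → D.SteinbergCover K, X = pX D (D.steinbergRelsAB K) := ⟨_, rfl⟩
  have h : R12 D X := by rw [hX]; exact r12_pX hsub
  have S := sys_of_chk hOK.symm hOK.cmdec hOK.smcm hOK.dec hOK.link hOK.decch
  obtain ⟨Y, hY1, hY2, hY3, hY4⟩ := exists_lift S X h.add (fun hc => hcm_of_r12 hOK h hc)
    (fun hs => hsm_of_r12 hOK h hs) ψ hψ hc
  have hR : R12 D Y := r12_of_lift hOK hY2 hY3 hY4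
  have hrels : ∀ g ∈ D.steinbergRelsAB K,
      FreeGroup.lift (fun a : Fin D.nroots × K => Y a.1.val a.2) g = 1 := by
    intro g hg
    rcases hg with ⟨r, t₁, t₂, hr, rfl⟩ | ⟨r, s, t, u, hr, hs, h1, h2, rfl⟩
    · rw [map_mul, map_mul, map_inv, lift_stX_gen Y hr, lift_stX_gen Y hr, lift_stX_gen Y hr,
        mul_inv_eq_one]
      exact hR.add r hr t₁ t₂
    · have hw : ∀ p ∈ D.commWord K r s t u, p.1 < D.nroots := by
        intro p hp
        unfold ChevalleyDatum.commWord at hp
        rw [commTerms_of_short (hOK.short r hr s hs).1 (hOK.short s hs r hr).1, List.map_map,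
          List.mem_map] at hp
        obtain ⟨q, hq, rfl⟩ := hp
        exact ((hOK.short r hr s hs).2 q hq).1
      rw [map_mul, map_mul, map_mul, map_mul, map_inv, map_inv, map_inv, lift_stX_gen Y hr,
        lift_stX_gen Y hs, lift_stWord_gen Y _ hw, mul_inv_eq_one]
      exact hR.comm r hr s hs h1 h2 t u
  refine ⟨PresentedGroup.toGroup hrels, ?_⟩
  apply PresentedGroup.ext
  intro a
  rw [MonoidHom.comp_apply, PresentedGroup.toGroup.of, MonoidHom.id_apply, hY1 a.1.val a.1.isLt,
    hX]
  unfold pX ChevalleyDatum.stX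
  rw [dif_pos a.1.isLt]
  rfl

/-- the universal property: homomorphisms from the group presented by (R1), (R2) lift uniquely
through central extensions (any field) -/
theorem lift_unique_of_slok {G₁ E : Type*} [Group G₁] [Group E] (π₁ : E →* G₁)
    (hπ : Function.Surjective π₁) (hc : π₁.ker ≤ Subgroup.center E)
    (σ : D.SteinbergCover K →* G₁) : ∃! τ : D.SteinbergCover K →* E, π₁.comp τ = σ := by
  have hperf : commutator (D.SteinbergCover K) = ⊤ := perfect_of_slok hOK
  obtain ⟨P, hPdef⟩ : ∃ P : Subgroup (E × D.SteinbergCover K),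
      P = (π₁.comp (MonoidHom.fst E (D.SteinbergCover K))).eqLocus
        (σ.comp (MonoidHom.snd E (D.SteinbergCover K))) := ⟨_, rfl⟩
  have hPmem : ∀ p : E × D.SteinbergCover K, p ∈ P ↔ π₁ p.1 = σ p.2 := by
    intro p; rw [hPdef]; rfl
  obtain ⟨ψ, hψdef⟩ : ∃ ψ : ↥P →* D.SteinbergCover K,
      ψ = (MonoidHom.snd E (D.SteinbergCover K)).comp P.subtype := ⟨_, rfl⟩
  have hψa : ∀ p : ↥P, ψ p = p.1.2 := by intro p; rw [hψdef]; rfl
  have hψs : Function.Surjective ψ := by
    intro x
    obtain ⟨e, he⟩ := hπ (σ x)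
    exact ⟨⟨(e, x), (hPmem _).2 he⟩, by rw [hψa]⟩
  have hψc : ψ.ker ≤ Subgroup.center ↥P := by
    intro p hp
    rw [MonoidHom.mem_ker, hψa] at hp
    have hp1 : π₁ p.1.1 = 1 := by rw [(hPmem _).1 p.2, hp, map_one]
    have hcen := Subgroup.mem_center_iff.1 (hc (MonoidHom.mem_ker.2 hp1))
    rw [Subgroup.mem_center_iff]
    intro q
    apply Subtype.ext
    apply Prod.ext
    · exact hcen q.1.1
    · show q.1.2 * p.1.2 = p.1.2 * q.1.2
      rw [hp, mul_one, one_mul]
  obtain ⟨s, hs⟩ := exists_section_of_slok hOK ψ hψs hψc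
  have hs' : ∀ x, (s x).1.2 = x := by
    intro x
    have := congrArg (fun f => f x) hs
    simp only [MonoidHom.comp_apply, MonoidHom.id_apply] at this
    rw [hψa] at this
    exact this
  refine ⟨(MonoidHom.fst E (D.SteinbergCover K)).comp (P.subtype.comp s), ?_, ?_⟩
  · apply MonoidHom.ext
    intro x
    show π₁ (s x).1.1 = σ x
    rw [(hPmem _).1 (s x).2, hs']
  · intro τ' hτ'
    have hτ : π₁.comp ((MonoidHom.fst E (D.SteinbergCover K)).comp (P.subtype.comp s)) = σ := by
      apply MonoidHom.ext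
      intro x
      show π₁ (s x).1.1 = σ x
      rw [(hPmem _).1 (s x).2, hs']
    obtain ⟨τ, hτdef⟩ : ∃ τ : D.SteinbergCover K →* E,
        τ = (MonoidHom.fst E (D.SteinbergCover K)).comp (P.subtype.comp s) := ⟨_, rfl⟩
    rw [← hτdef] at hτ ⊢
    have hle : commutator (D.SteinbergCover K) ≤ τ'.eqLocus τ := by
      rw [commutator_eq_closure, Subgroup.closure_le]
      rintro _ ⟨x, y, rfl⟩
      show τ' ⁅x, y⁆ = τ ⁅x, y⁆
      rw [map_commutatorElement, map_commutatorElement]
      apply comm_eq_of_map_eq π₁ hc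
      · have a1 := congrArg (fun f => f x) hτ'
        have a2 := congrArg (fun f => f x) hτ
        simp only [MonoidHom.comp_apply] at a1 a2
        rw [a1, a2]
      · have a1 := congrArg (fun f => f y) hτ'
        have a2 := congrArg (fun f => f y) hτ
        simp only [MonoidHom.comp_apply] at a1 a2
        rw [a1, a2]
    rw [hperf] at hle
    apply MonoidHom.ext
    intro x
    exact hle (Subgroup.mem_top x)

end split

end Cfsg.Agent.Helper2.Stein
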