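import Mathlib
import Cfsg.Agent.Helper2.Stein.TabE7
import Cfsg.Agent.Helper2.Stein.Main
import Cfsg.Agent.Helper6.Chev.TablesKeys

set_option autoImplicit false

/-! The group of type E₇ presented by (R1), (R2) over any field is centrally closed. -/

namespace Cfsg.Agent.Helper2.Stein

open Cfsg.Lie Cfsg.Agent.Helper6 Cfsg.Agent.Helper2.StPerf Cfsg.Agent.Helper2.Stb

theorem slok_E7 : SLOK chevE7 d1_E7 d2_E7 := by
  have hD : IsTabulated chevE7 := by simp [IsTabulated]
  have hce : ceLit chevE7 commPRow_E7 = chevE7.chainEntry :=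
    ceLit_eq (keysSorted_of_tabulated hD) litChkC_E7
  have hn : chevE7.nroots = 126 := rfl
  obtain ⟨c1, c2, c3, c4, c5⟩ := chks_of_rows rows_E7
  refine ⟨?_, ?_, ?_, ?_, ?_, ?_, ?_, ?_⟩
  · rw [hn]; exact chkNeg_E7
  · rw [← hce, hn]; exact c1
  · rw [← hce, hn]; exact c2
  · rw [← hce, hn]; exact c3
  · rw [← hce, hn]; exact c4
  · rw [← hce, hn]; exact chkDec_E7
  · rw [← hce, hn]; exact c5
  · rw [← hce, hn]; exact chkDecCh_E7

/-- over any field, homomorphisms from the group of type E₇ presented by (R1), (R2) lift uniquely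
through central extensions -/
theorem lift_unique_E7 {K : Type*} [Field K]
    {G₁ E : Type*} [Group G₁] [Group E] (π₁ : E →* G₁) (hπ : Function.Surjective π₁)
    (hc : π₁.ker ≤ Subgroup.center E) (σ : chevE7.SteinbergCover K →* G₁) :
    ∃! τ : chevE7.SteinbergCover K →* E, π₁.comp τ = σ :=
  lift_unique_of_slok slok_E7 π₁ hπ hc σ

end Cfsg.Agent.Helper2.Stein
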