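import Mathlib
import Cfsg.Agent.Helper2.Stein.Main
import Cfsg.Agent.Helper2.Stb.Unimod

set_option autoImplicit false
set_option linter.unusedSectionVars false
set_option linter.unusedSimpArgs false
set_option linter.unusedVariables false

/-! Embedding the (R1),(R2)-presented group of a simply-laced sub-root-system (same structure
constants) into the Steinberg group of a bigger datum; injectivity of the torus parametrisation
when the bigger datum has unimodular Cartan matrix. -/

namespace Cfsg.Agent.Helper2.Stein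

open Cfsg.Lie Cfsg.Agent.Helper6 Cfsg.Agent.Helper2.StPerf Cfsg.Agent.Helper2.Stb
open scoped commutatorElement

variable {D D' : ChevalleyDatum} {K : Type*} [Field K] {M : Type*} [Group M]

theorem wordX_map_fst (X : ℕ → K → M) (ι : ℕ → ℕ) (w : List (ℕ × K)) :
    wordX X (w.map fun p => (ι p.1, p.2)) = wordX (fun r t => X (ι r) t) w := by
  induction w with
  | nil => rw [List.map_nil, wordX_nil, wordX_nil]
  | cons p w ih => rw [List.map_cons, wordX_cons, wordX_cons, ih]

theorem map_wordX {M' : Type*} [Group M'] (Φ : M →* M') (X : ℕ → K → M) (w : List (ℕ × K)) :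
    Φ (wordX X w) = wordX (fun r t => Φ (X r t)) w := by
  induction w with
  | nil => rw [wordX_nil, wordX_nil, map_one]
  | cons p w ih => rw [wordX_cons, wordX_cons, map_mul, ih]

/-- the map `ι` of root indices embeds the root system of `D` in that of `D'`, with the same
structure constants -/
structure EmbOK (D D' : ChevalleyDatum) (ι : ℕ → ℕ) : Prop where
  lt : ∀ r < D.nroots, ι r < D'.nroots
  neg : ∀ r < D.nroots, ι (D.neg r) = D'.neg (ι r)
  inj : ∀ r < D.nroots, ∀ s < D.nroots, ι r = ι s → r = s
  ce : ∀ r < D.nroots, ∀ s < D.nroots,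
    D'.chainEntry (ι r) (ι s) = (D.chainEntry r s).map fun p => (ι p.1, p.2)
  simple : ∀ i < D.rank, ι (D.simple i) = D'.simple i
  rank : D.rank ≤ D'.rank

/-- the relations (R1), (R2) of `D` for the restricted generators -/
theorem r12_of_emb {ι : ℕ → ℕ} (hE : EmbOK D D' ι) (hs : ChkShort D.nroots D.chainEntry)
    (hs' : ChkShort D'.nroots D'.chainEntry) (hneg : ∀ r < D.nroots, D.neg r < D.nroots)
    {X : ℕ → K → M} (h : R12 D' X) :
    R12 D (fun r t => X (ι r) t) := by
  refine ⟨fun r hr t u => h.add (ι r) (hE.lt r hr) t u, ?_⟩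
  intro r hr s hs0 h1 h2 t u
  have h1' : ι s ≠ ι r := fun e => h1 (hE.inj s hs0 r hr e)
  have h2' : ι s ≠ D'.neg (ι r) := by
    rw [← hE.neg r hr]
    exact fun e => h2 (hE.inj s hs0 _ (hneg r hr) e)
  have hc := h.comm (ι r) (hE.lt r hr) (ι s) (hE.lt s hs0) h1' h2' t u
  show (X (ι s) u)⁻¹ * (X (ι r) t)⁻¹ * X (ι s) u * X (ι r) t = _
  rw [hc, ← wordX_map_fst X ι (D.commWord K r s t u)]
  congr 1
  unfold ChevalleyDatum.commWord
  rw [commTerms_of_short (hs r hr s hs0).1 (hs s hs0 r hr).1,
    commTerms_of_short (hs' _ (hE.lt r hr) _ (hE.lt s hs0)).1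
      (hs' _ (hE.lt s hs0) _ (hE.lt r hr)).1, hE.ce r hr s hs0]
  simp only [List.map_map]
  rfl

/-- the homomorphism from the group presented by (R1), (R2) defined by generators satisfying
the relations -/
theorem hom_of_r12 {d1 d2 : ℕ → ℕ} (hOK : SLOK D d1 d2) {Y : ℕ → K → M} (hR : R12 D Y) :
    ∃ Φ : D.SteinbergCover K →* M, ∀ r < D.nroots, ∀ t : K,
      Φ (pX D (D.steinbergRelsAB K) r t) = Y r t := by
  have hrels : ∀ g ∈ D.steinbergRelsAB K,
      FreeGroup.lift (fun a : Fin D.nroots × K => Y a.1.val a.2) g = 1 := by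
    intro g hg
    rcases hg with ⟨r, t₁, t₂, hr, rfl⟩ | ⟨r, s, t, u, hr, hs, h1, h2, rfl⟩
    · rw [map_mul, map_mul, map_inv, lift_stX_gen Y hr, lift_stX_gen Y hr, lift_stX_gen Y hr,
        mul_inv_eq_one]
      exact hR.add r hr t₁ t₂
    · have hw : ∀ p ∈ D.commWord K r s t u, p.1 < D.nroots := by
        intro p hp
        unfold ChevalleyDatum.commWord at hp
        rw [commTerms_of_short (hOK.short r hr s hs).1 (hOK.short s hs r hr).1, List.map_map,
          List.mem_map] at hp
        obtain ⟨q, hq, rfl⟩ := hp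
        exact ((hOK.short r hr s hs).2 q hq).1
      rw [map_mul, map_mul, map_mul, map_mul, map_inv, map_inv, map_inv, lift_stX_gen Y hr,
        lift_stX_gen Y hs, lift_stWord_gen Y _ hw, mul_inv_eq_one]
      exact hR.comm r hr s hs h1 h2 t u
  refine ⟨PresentedGroup.toGroup hrels, ?_⟩
  intro r hr t
  unfold pX
  have : PresentedGroup.toGroup hrels (PresentedGroup.mk (D.steinbergRelsAB K) (D.stX r t)) =
      FreeGroup.lift (fun a : Fin D.nroots × K => Y a.1.val a.2) (D.stX r t) := rfl
  rw [this, lift_stX_gen Y hr]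

theorem list_prod_range_split (f : ℕ → M) (m : ℕ) : ∀ n : ℕ, m ≤ n →
    (∀ i, m ≤ i → i < n → f i = 1) → ((List.range n).map f).prod = ((List.range m).map f).prod := by
  intro n
  induction n with
  | zero =>
    intro hm _
    have : m = 0 := by omega
    rw [this]
  | succ n ih =>
    intro hm h1
    rcases Nat.eq_or_lt_of_le hm with e | hlt
    · rw [e]
    · rw [List.range_succ, List.map_append, List.prod_append, List.map_singleton,
        List.prod_singleton, h1 n (by omega) (by omega), mul_one]
      exact ih (by omega) (fun i hi hi' => h1 i hi (by omega))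

theorem prodH_split (X : ℕ → K → M) (D : ChevalleyDatum) (t : ℕ → K) (m : ℕ) (hm : m ≤ D.rank)
    (h1 : ∀ i, m ≤ i → i < D.rank → hH X D (D.simple i) (t i) = 1) :
    prodH X D t = ((List.range m).map fun i => hH X D (D.simple i) (t i)).prod := by
  unfold prodH
  exact list_prod_range_split (fun i => hH X D (D.simple i) (t i)) m D.rank hm h1

/-- the torus parametrisation of the group presented by (R1), (R2) is injective, when the root
system embeds in one with unimodular Cartan matrix -/
theorem prodH_injective_of_emb {d1 d2 d1' d2' : ℕ → ℕ} (hOK : SLOK D d1 d2)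
    (hOK' : SLOK D' d1' d2') (hD' : D' ∈ [chevG2, chevF4, chevE8]) {ι : ℕ → ℕ}
    (hE : EmbOK D D' ι) (hneg : ∀ r < D.nroots, D.neg r < D.nroots)
    (hsimp : ∀ i < D.rank, D.simple i < D.nroots) {t : ℕ → K} (ht : ∀ i, t i ≠ 0)
    (h1 : prodH (pX D (D.steinbergRelsAB K)) D t = 1) : ∀ i < D.rank, t i = 1 := by
  have hT' : IsTabulated D' := by
    simp only [List.mem_cons, List.not_mem_nil, or_false] at hD'
    unfold IsTabulated
    rcases hD' with rfl | rfl | rfl <;> simp
  have hB' := basicOK_of_tabulated hT'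
  have hsub : D'.steinbergRelsAB K ⊆ D'.steinbergRels K := fun g hg => Or.inl hg
  obtain ⟨X', hX'⟩ : ∃ X' : ℕ → K → D'.SteinbergGroup K, X' = pX D' (D'.steinbergRels K) :=
    ⟨_, rfl⟩
  have hR' : R12 D' X' := by rw [hX']; exact r12_pX hsub
  have hθ : ∀ (r : ℕ) (u : K), r < D'.nroots →
      ((thetaABC hT' K (pX D' (D'.steinbergRels K) r u) : GL D'.Idx K) :
        Matrix D'.Idx D'.Idx K) = D'.x K r u := fun r u hr => thetaABC_apply hT' r u hr
  obtain ⟨π, hπdef⟩ : ∃ π : D'.SteinbergGroup K →* GL D'.Idx K,
      π = (D'.group K).subtype.comp (thetaABC hT' K) := ⟨_, rfl⟩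
  have hπ : ∀ r < D'.nroots, ∀ u : K, π (X' r u) = xU hB' r u := by
    rw [hX', hπdef]; exact hπ_of hT' hsub _ hθ
  have hR3 : ∀ i < D'.rank, ∀ a b : K, a ≠ 0 → b ≠ 0 →
      hH X' D' (D'.simple i) a * hH X' D' (D'.simple i) b = hH X' D' (D'.simple i) (a * b) := by
    intro i hi a b ha hb
    have hp := (simpleAll_of_tabulated hT' hi).hS.1
    have h1 : PresentedGroup.mk (D'.steinbergRels K)
        (D'.stH (D'.simple i) a * D'.stH (D'.simple i) b * (D'.stH (D'.simple i) (a * b))⁻¹) = 1 :=
      PresentedGroup.one_of_mem (Or.inr ⟨D'.simple i, a, b, hp, ha, hb, rfl⟩)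
    rw [map_mul, map_mul, map_inv, mul_inv_eq_one] at h1
    unfold ChevalleyDatum.stH at h1
    rw [mk_stWord, mk_stWord, mk_stWord] at h1
    rw [hX']
    exact h1
  -- the homomorphism
  have hRY : R12 D (fun r u => X' (ι r) u) := r12_of_emb hE hOK.short hOK'.short hneg hR'
  obtain ⟨Φ, hΦ⟩ := hom_of_r12 hOK hRY
  -- images of the torus elements
  have hword : ∀ w : List (ℕ × K), (∀ p ∈ w, p.1 < D.nroots) →
      Φ (wordX (pX D (D.steinbergRelsAB K)) w) = wordX X' (w.map fun p => (ι p.1, p.2)) := by
    intro w hw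
    rw [map_wordX, wordX_map_fst]
    unfold wordX
    congr 1
    apply List.map_congr_left
    intro p hp
    exact hΦ p.1 (hw p hp) p.2
  have hhH : ∀ i < D.rank, ∀ a : K,
      Φ (hH (pX D (D.steinbergRelsAB K)) D (D.simple i) a) = hH X' D' (D'.simple i) a := by
    intro i hi a
    have hs := hsimp i hi
    unfold hH
    rw [hword]
    · congr 1
      unfold ChevalleyDatum.hWord ChevalleyDatum.nWord
      simp only [List.map_append, List.map_cons, List.map_nil, hE.simple i hi, hE.neg _ hs]
    · intro p hp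
      unfold ChevalleyDatum.hWord ChevalleyDatum.nWord at hp
      simp only [List.mem_append, List.mem_cons, List.not_mem_nil, or_false] at hp
      rcases hp with (rfl | rfl | rfl) | (rfl | rfl | rfl)
      all_goals first | exact hs | exact hneg _ hs
  -- the extended tuple
  obtain ⟨t', ht'def⟩ : ∃ t' : ℕ → K, t' = fun i => if i < D.rank then t i else 1 := ⟨_, rfl⟩
  have ht'0 : ∀ i, t' i ≠ 0 := by
    intro i
    rw [ht'def]
    by_cases hi : i < D.rank
    · simp only [hi, if_true]; exact ht i
    · simp only [hi, if_false]; exact one_ne_zero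
  have hprod : prodH X' D' t' = 1 := by
    rw [prodH_split X' D' t' D.rank hE.rank]
    · have : Φ (prodH (pX D (D.steinbergRelsAB K)) D t) =
          ((List.range D.rank).map fun i => hH X' D' (D'.simple i) (t' i)).prod := by
        unfold prodH
        rw [map_list_prod, List.map_map]
        congr 1
        apply List.map_congr_left
        intro i hi
        have hi' := List.mem_range.1 hi
        rw [Function.comp_apply, hhH i hi', ht'def]
        simp only [hi', if_true]
      rw [← this, h1, map_one]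
    · intro i hi hi'
      have : t' i = 1 := by
        rw [ht'def]
        simp only [not_lt.2 hi, if_false]
      rw [this]
      exact hH_one hR' hT' π hπ hR3 hi'
  -- characters are trivial
  have hχ : ∀ j < D'.rank, ∏ i ∈ Finset.range D'.rank, (t' i) ^ (D'.cartan i (D'.simple j)) = 1 := by
    intro j hj
    have hp := (simpleAll_of_tabulated hT' hj).hS.1
    have h2 := prodH_conj hR' hT' π hπ ht'0 hp (1 : K)
    rw [hprod, one_mul, inv_one, mul_one, mul_one] at h2
    have h3 := congrArg π h2
    rw [hπ _ hp, hπ _ hp] at h3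
    exact (xU_inj hB' hp h3).symm
  have hall := eq_one_of_char_trivial (invCartan_of_mem hD') ht'0 hχ
  intro i hi
  have := hall i (lt_of_lt_of_le hi hE.rank)
  rw [ht'def] at this
  simpa only [hi, if_true] using this

end Cfsg.Agent.Helper2.Stein
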