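import Mathlib
import Cfsg.Agent.Helper6.Chev.TablesCommE6
import Cfsg.Agent.Helper6.Chev.TablesCommE7
import Cfsg.Agent.Helper6.Chev.TablesCommE8
import Cfsg.Agent.Helper6.Chev.TablesKeys
import Cfsg.Agent.Helper2.Stein.Embed

set_option autoImplicit false

/-! The root systems of types E₆ and E₇ inside that of type E₈: table checks. -/

namespace Cfsg.Agent.Helper2.Stein

open Cfsg.Lie Cfsg.Agent.Helper6

/-- the roots of type E6 among those of type E₈, packed -/
def iota_E6 (r : ℕ) : ℕ :=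
  Nat.mod (Nat.shiftRight 0xccc2bcb9b8b2afaeabaaa9a6a5a4a3a29c9998959493908f8e8d8a8988878483827f7e7b7471706d6c6b686766656261605f5c5b5a5756534d4c4b4a4946454441403d3736332d23 (Nat.mul 8 r)) 256

set_option maxRecDepth 100000 in
theorem embChkA_E6 : ∀ r < 72, iota_E6 r < 240 ∧ iota_E6 (chevE6.neg r) = chevE8.neg (iota_E6 r) ∧
    chevE6.neg r < 72 := by
  decide +kernel

set_option maxRecDepth 100000 in
theorem embChkB_E6 : ∀ r < 72, ∀ s < 72, (iota_E6 r = iota_E6 s → r = s) ∧
    ceLit chevE8 commPRow_E8 (iota_E6 r) (iota_E6 s) =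
      (ceLit chevE6 commPRow_E6 r s).map fun p => (iota_E6 p.1, p.2) := by
  decide +kernel

set_option maxRecDepth 100000 in
theorem embChkC_E6 : ∀ i < 6, iota_E6 (chevE6.simple i) = chevE8.simple i ∧
    chevE6.simple i < 72 := by
  decide +kernel

theorem embOK_E6 : EmbOK chevE6 chevE8 iota_E6 := by
  have hD : IsTabulated chevE6 := by simp [IsTabulated]
  have hD8 : IsTabulated chevE8 := by simp [IsTabulated]
  have hce : ceLit chevE6 commPRow_E6 = chevE6.chainEntry :=
    ceLit_eq (keysSorted_of_tabulated hD) litChkC_E6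
  have hce8 : ceLit chevE8 commPRow_E8 = chevE8.chainEntry :=
    ceLit_eq (keysSorted_of_tabulated hD8) litChkC_E8
  have hn : chevE6.nroots = 72 := rfl
  have hn8 : chevE8.nroots = 240 := rfl
  have hr : chevE6.rank = 6 := rfl
  refine ⟨?_, ?_, ?_, ?_, ?_, ?_⟩
  · intro r hr'
    rw [hn8]
    exact (embChkA_E6 r (by rw [← hn]; exact hr')).1
  · intro r hr'
    exact (embChkA_E6 r (by rw [← hn]; exact hr')).2.1
  · intro r hr' s hs'
    exact (embChkB_E6 r (by rw [← hn]; exact hr') s (by rw [← hn]; exact hs')).1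
  · intro r hr' s hs'
    rw [← hce, ← hce8]
    exact (embChkB_E6 r (by rw [← hn]; exact hr') s (by rw [← hn]; exact hs')).2
  · intro i hi
    exact (embChkC_E6 i (by rw [← hr]; exact hi)).1
  · decide

/-- the roots of type E7 among those of type E₈, packed -/
def iota_E7 (r : ℕ) : ℕ :=
  Nat.mod (Nat.shiftRight 0xe2dbd6d2cfcdccc8c5c3c2bfbdbcbab9b8b5b3b2b0afaeacabaaa9a7a6a5a4a3a29f9d9c9a99989695949391908f8e8d8b8a89888785848382807f7e7c7b7976747371706f6d6c6b6a68676665646261605f5e5c5b5a595756555352504d4c4b4a49484645444341403f3d3c3a3736353332302d2c2a272322201d19140d (Nat.mul 8 r)) 256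

set_option maxRecDepth 100000 in
theorem embChkA_E7 : ∀ r < 126, iota_E7 r < 240 ∧ iota_E7 (chevE7.neg r) = chevE8.neg (iota_E7 r) ∧
    chevE7.neg r < 126 := by
  decide +kernel

set_option maxRecDepth 100000 in
theorem embChkB_E7 : ∀ r < 126, ∀ s < 126, (iota_E7 r = iota_E7 s → r = s) ∧
    ceLit chevE8 commPRow_E8 (iota_E7 r) (iota_E7 s) =
      (ceLit chevE7 commPRow_E7 r s).map fun p => (iota_E7 p.1, p.2) := by
  decide +kernel

set_option maxRecDepth 100000 in
theorem embChkC_E7 : ∀ i < 7, iota_E7 (chevE7.simple i) = chevE8.simple i ∧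
    chevE7.simple i < 126 := by
  decide +kernel

theorem embOK_E7 : EmbOK chevE7 chevE8 iota_E7 := by
  have hD : IsTabulated chevE7 := by simp [IsTabulated]
  have hD8 : IsTabulated chevE8 := by simp [IsTabulated]
  have hce : ceLit chevE7 commPRow_E7 = chevE7.chainEntry :=
    ceLit_eq (keysSorted_of_tabulated hD) litChkC_E7
  have hce8 : ceLit chevE8 commPRow_E8 = chevE8.chainEntry :=
    ceLit_eq (keysSorted_of_tabulated hD8) litChkC_E8
  have hn : chevE7.nroots = 126 := rfl
  have hn8 : chevE8.nroots = 240 := rfl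
  have hr : chevE7.rank = 7 := rfl
  refine ⟨?_, ?_, ?_, ?_, ?_, ?_⟩
  · intro r hr'
    rw [hn8]
    exact (embChkA_E7 r (by rw [← hn]; exact hr')).1
  · intro r hr'
    exact (embChkA_E7 r (by rw [← hn]; exact hr')).2.1
  · intro r hr' s hs'
    exact (embChkB_E7 r (by rw [← hn]; exact hr') s (by rw [← hn]; exact hs')).1
  · intro r hr' s hs'
    rw [← hce, ← hce8]
    exact (embChkB_E7 r (by rw [← hn]; exact hr') s (by rw [← hn]; exact hs')).2
  · intro i hi
    exact (embChkC_E7 i (by rw [← hr]; exact hi)).1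
  · decide

end Cfsg.Agent.Helper2.Stein
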