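import Mathlib
import Cfsg.Prelude.Def_KGroupFacts
import Cfsg.Agent.Helper2.Stein.Main
import Cfsg.Agent.Helper2.Stb.Center
import Cfsg.Agent.S2397

set_option autoImplicit false
set_option linter.unusedSectionVars false
set_option linter.unusedSimpArgs false
set_option linter.unusedVariables false

/-! The Schur multiplier of a simply-laced Chevalley group of large rank from the centre of the
universal group. -/

namespace Cfsg.Agent.Helper2.Stein

open Cfsg.Lie Cfsg.Agent.Helper6 Cfsg.Agent.Helper2.StPerf Cfsg.Agent.Helper2.Stb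
open scoped commutatorElement

/-- if the centre of the group presented by (R1), (R2) is cyclic of order `m`, the Schur
multiplier of the (adjoint) Chevalley group is cyclic of order `m` -/
theorem hasCyclicSchur_of_center {D : ChevalleyDatum} {d1 d2 : ℕ → ℕ} (hD : IsTabulated D)
    (hOK : SLOK D d1 d2) {F : Type*} [Field F] [Fintype F] {m : ℕ} (hm : 0 < m)
    (hcyc : IsCyclic (Subgroup.center (D.SteinbergCover F)))
    (hcard : Nat.card (Subgroup.center (D.SteinbergCover F)) = m) :
    Cfsg.HasCyclicSchurMultiplier ↥(D.group F) m := by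
  subst hcard
  have hsub : D.steinbergRelsAB F ⊆ D.steinbergRelsAB F := subset_rfl
  have hθ : ∀ (r : ℕ) (t : F), r < D.nroots →
      ((thetaAB hD F (pX D (D.steinbergRelsAB F) r t) : GL D.Idx F) :
        Matrix D.Idx D.Idx F) = D.x F r t := fun r t hr => thetaAB_apply hD r t hr
  have hθsurj : Function.Surjective (thetaAB hD F) := surjective_pres hsub _ hθ
  have hθker : (thetaAB hD F).ker ≤ Subgroup.center (D.SteinbergCover F) :=
    ker_le_center_pres hD hsub _ hθ
  have hcenG : Subgroup.center ↥(D.group F) = ⊥ := center_group_eq_bot hD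
  have hker : (thetaAB hD F).ker = Subgroup.center (D.SteinbergCover F) := by
    apply le_antisymm hθker
    intro z hz
    rw [MonoidHom.mem_ker]
    have h1 : thetaAB hD F z ∈ Subgroup.center ↥(D.group F) := by
      rw [Subgroup.mem_center_iff]
      intro g
      obtain ⟨x, rfl⟩ := hθsurj g
      rw [← map_mul, ← map_mul, Subgroup.mem_center_iff.1 hz x]
    rw [hcenG, Subgroup.mem_bot] at h1
    exact h1
  have hperf : commutator (D.SteinbergCover F) = ⊤ := perfect_of_slok hOK
  haveI : Finite (Subgroup.center (D.SteinbergCover F)) := Nat.finite_of_card_ne_zero (by omega)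
  have eK : (thetaAB hD F).ker ≃* Subgroup.center (D.SteinbergCover F) :=
    MulEquiv.subgroupCongr hker
  haveI : Finite (thetaAB hD F).ker := Finite.of_equiv _ eK.symm.toEquiv
  haveI : Finite (D.SteinbergCover F ⧸ (thetaAB hD F).ker) :=
    Finite.of_equiv _ (QuotientGroup.quotientKerEquivOfSurjective (thetaAB hD F) hθsurj).symm.toEquiv
  haveI : Finite (D.SteinbergCover F) := Finite.of_subgroup_quotient (thetaAB hD F).ker
  have eA : (thetaAB hD F).ker ≃*
      Multiplicative (ZMod (Nat.card (Subgroup.center (D.SteinbergCover F)))) :=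
    eK.trans (zmodCyclicMulEquiv hcyc).symm
  refine ⟨⟨D.SteinbergCover F, inferInstance, inferInstance, thetaAB hD F,
    ⟨hθsurj, hθker, ?_⟩, ⟨eA⟩⟩, ?_⟩
  · rw [hperf]; exact le_top
  · intro Γ _ _ σ hσ
    obtain ⟨hσs, hσc, hσd⟩ := hσ
    obtain ⟨τ, hτ, _⟩ := lift_unique_of_slok hOK σ hσs hσc (thetaAB hD F)
    have hτ' : ∀ x, σ (τ x) = thetaAB hD F x := fun x => by
      rw [← hτ]; rfl
    have hle : commutator Γ ≤ τ.range := by
      rw [commutator_eq_closure, Subgroup.closure_le]
      rintro _ ⟨γ1, γ2, rfl⟩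
      obtain ⟨x1, hx1⟩ := hθsurj (σ γ1)
      obtain ⟨x2, hx2⟩ := hθsurj (σ γ2)
      refine ⟨⁅x1, x2⁆, ?_⟩
      rw [map_commutatorElement]
      apply comm_eq_of_map_eq σ hσc
      · rw [hτ', hx1]
      · rw [hτ', hx2]
    have hmem : ∀ x : (thetaAB hD F).ker, τ x.1 ∈ σ.ker := by
      intro x
      rw [MonoidHom.mem_ker, hτ']
      exact x.2
    obtain ⟨ρ, hρ⟩ : ∃ ρ : (thetaAB hD F).ker →* σ.ker, ∀ x, (ρ x : Γ) = τ x.1 :=
      ⟨(τ.comp (thetaAB hD F).ker.subtype).codRestrict σ.ker hmem, fun x => rfl⟩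
    refine ⟨ρ.comp eA.symm.toMonoidHom, ?_⟩
    intro k
    obtain ⟨x, hx⟩ := hle (hσd k.2)
    have hk1 : σ k.1 = 1 := k.2
    have hx1 : thetaAB hD F x = 1 := by rw [← hτ', hx, hk1]
    refine ⟨eA ⟨x, hx1⟩, ?_⟩
    apply Subtype.ext
    rw [MonoidHom.comp_apply]
    show (ρ (eA.symm (eA ⟨x, hx1⟩)) : Γ) = k.1
    rw [MulEquiv.symm_apply_apply, hρ, hx]

/-- transport of the centre along the isomorphism between the groups presented by (R1), (R2) and
by (R1)–(R3) -/
theorem hasCyclicSchur_of_center' {D : ChevalleyDatum} {d1 d2 : ℕ → ℕ}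
    (hDm : D ∈ [chevG2, chevB2, chevD4, chevF4, chevE6, chevE7, chevE8])
    (hB : D ∉ [chevB2, chevG2])
    (hOK : SLOK D d1 d2) {F : Type*} [Field F] [Fintype F] {m : ℕ} (hm : 0 < m)
    (hcyc : IsCyclic (Subgroup.center (D.SteinbergGroup F)))
    (hcard : Nat.card (Subgroup.center (D.SteinbergGroup F)) = m) :
    Cfsg.HasCyclicSchurMultiplier ↥(D.group F) m := by
  obtain ⟨e, _⟩ := Cfsg.Agent.S2397.result (K := F) D hDm (fun h => absurd h hB)
  have hmap : ∀ z, z ∈ Subgroup.center (D.SteinbergCover F) ↔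
      e z ∈ Subgroup.center (D.SteinbergGroup F) := by
    intro z
    rw [Subgroup.mem_center_iff, Subgroup.mem_center_iff]
    constructor
    · intro h g
      obtain ⟨x, rfl⟩ := e.surjective g
      rw [← map_mul, ← map_mul, h x]
    · intro h g
      apply e.injective
      rw [map_mul, map_mul, h (e g)]
  have eC : Subgroup.center (D.SteinbergCover F) ≃* Subgroup.center (D.SteinbergGroup F) :=
    { toFun := fun z => ⟨e z.1, (hmap z.1).1 z.2⟩
      invFun := fun z => ⟨e.symm z.1, (hmap _).2 (by rw [MulEquiv.apply_symm_apply]; exact z.2)⟩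
      left_inv := fun z => Subtype.ext (e.symm_apply_apply z.1)
      right_inv := fun z => Subtype.ext (e.apply_symm_apply z.1)
      map_mul' := fun a b => Subtype.ext (map_mul e a.1 b.1) }
  have hcyc' : IsCyclic (Subgroup.center (D.SteinbergCover F)) :=
    isCyclic_of_surjective eC.symm.toMonoidHom eC.symm.surjective
  have hcard' : Nat.card (Subgroup.center (D.SteinbergCover F)) = m := by
    rw [Nat.card_congr eC.toEquiv, hcard]
  exact hasCyclicSchur_of_center hDm hOK hm hcyc' hcard'

end Cfsg.Agent.Helper2.Stein
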