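import Mathlib
import Cfsg.Agent.Helper2.Stein.EmbTab
import Cfsg.Agent.Helper2.Stein.E6
import Cfsg.Agent.Helper2.Stein.E7
import Cfsg.Agent.Helper2.Stein.E8
import Cfsg.Agent.S2397

set_option autoImplicit false
set_option linter.unusedSectionVars false
set_option linter.unusedSimpArgs false
set_option linter.unusedVariables false

/-! The torus parametrisation `t ↦ ∏ ĥ_{p_i}(t_i)` of the universal groups of types E₆ and E₇ is
injective (via the embedding in the group of type E₈). -/

namespace Cfsg.Agent.Helper2.Stein

open Cfsg.Lie Cfsg.Agent.Helper6 Cfsg.Agent.Helper2.StPerf Cfsg.Agent.Helper2.Stb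

variable {K : Type*} [Field K]

theorem prodH_injective_E6 {t : ℕ → K} (ht : ∀ i, t i ≠ 0)
    (h1 : prodH (pX chevE6 (chevE6.steinbergRelsAB K)) chevE6 t = 1) : ∀ i < 6, t i = 1 :=
  prodH_injective_of_emb slok_E6 slok_E8 (by simp) embOK_E6
    (fun r hr => (embChkA_E6 r hr).2.2) (fun i hi => (embChkC_E6 i hi).2) ht h1

theorem prodH_injective_E7 {t : ℕ → K} (ht : ∀ i, t i ≠ 0)
    (h1 : prodH (pX chevE7 (chevE7.steinbergRelsAB K)) chevE7 t = 1) : ∀ i < 7, t i = 1 :=
  prodH_injective_of_emb slok_E7 slok_E8 (by simp) embOK_E7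
    (fun r hr => (embChkA_E7 r hr).2.2) (fun i hi => (embChkC_E7 i hi).2) ht h1

/-- transport of `prodH` along a homomorphism matching the generators -/
theorem map_prodH {D : ChevalleyDatum} {M M' : Type*} [Group M] [Group M'] (e : M →* M')
    (X : ℕ → K → M) (X' : ℕ → K → M') (he : ∀ r t, e (X r t) = X' r t) (t : ℕ → K) :
    e (prodH X D t) = prodH X' D t := by
  unfold prodH
  rw [map_list_prod, List.map_map]
  congr 1
  apply List.map_congr_left
  intro i _
  rw [Function.comp_apply]
  unfold hH
  rw [map_wordX]
  congr 1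
  funext r u
  exact he r u

/-- the same for the groups presented by (R1)–(R3), over a finite field -/
theorem prodH_injective_E6' [Finite K] {t : ℕ → K} (ht : ∀ i, t i ≠ 0)
    (h1 : prodH (pX chevE6 (chevE6.steinbergRels K)) chevE6 t = 1) : ∀ i < 6, t i = 1 := by
  obtain ⟨e, he⟩ := Cfsg.Agent.S2397.result (K := K) chevE6 (by simp) (fun h => by
    exfalso
    simp only [List.mem_cons, List.not_mem_nil, or_false] at h
    rcases h with h | h
    · have := congrArg ChevalleyDatum.nroots h
      revert this
      decide
    · have := congrArg ChevalleyDatum.nroots h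
      revert this
      decide)
  apply prodH_injective_E6 ht
  apply e.injective
  have h2 := map_prodH (D := chevE6) e.toMonoidHom (pX chevE6 (chevE6.steinbergRelsAB K))
    (pX chevE6 (chevE6.steinbergRels K)) (fun r u => he r u) t
  rw [map_one]
  exact h2.trans h1

theorem prodH_injective_E7' [Finite K] {t : ℕ → K} (ht : ∀ i, t i ≠ 0)
    (h1 : prodH (pX chevE7 (chevE7.steinbergRels K)) chevE7 t = 1) : ∀ i < 7, t i = 1 := by
  obtain ⟨e, he⟩ := Cfsg.Agent.S2397.result (K := K) chevE7 (by simp) (fun h => by
    exfalso
    simp only [List.mem_cons, List.not_mem_nil, or_false] at h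
    rcases h with h | h
    · have := congrArg ChevalleyDatum.nroots h
      revert this
      decide
    · have := congrArg ChevalleyDatum.nroots h
      revert this
      decide)
  apply prodH_injective_E7 ht
  apply e.injective
  have h2 := map_prodH (D := chevE7) e.toMonoidHom (pX chevE7 (chevE7.steinbergRelsAB K))
    (pX chevE7 (chevE7.steinbergRels K)) (fun r u => he r u) t
  rw [map_one]
  exact h2.trans h1

end Cfsg.Agent.Helper2.Stein
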